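import Groth.Agent.Growth22.RegPow.Sys
import Mathlib.Data.Sym.Basic
import Mathlib.Data.Fintype.Vector

/-!
# Free covers of generated systems and their kernels
-/

universe u

set_option backward.isDefEq.respectTransparency false
set_option backward.isDefEq.respectTransparency.types false
set_option linter.style.haveILetI false

open CategoryTheory CategoryTheory.Limits AlgebraicGeometry TopologicalSpace Opposite
open Groth.Agent

noncomputable section

namespace Groth.Agent.Growth22.RegPow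

attribute [local instance] QCoh.hasFiniteBiproducts

variable {X : Scheme.{u}} {σ : Type u}

/-- Iterated operators along a word, zero in the wrong degree. -/
def Sys.wd (S : Sys X σ) : List σ → ∀ q r, (S.N q ⟶ S.N r)
  | [], q, r => if h : q = r then eqToHom (congrArg S.N h) else 0
  | i :: l, q, r => S.y i q ≫ S.wd l (q + 1) r

theorem Sys.wd_perm (S : Sys X σ) {l l' : List σ} (h : l.Perm l') : ∀ q r, S.wd l q r = S.wd l' q r := by
  induction h with
  | nil => exact fun _ _ => rfl
  | cons i _ ih => exact fun q r => congrArg (S.y i q ≫ ·) (ih _ r)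
  | swap i j l =>
    intro q r
    show S.y j q ≫ S.y i (q + 1) ≫ S.wd l _ r = S.y i q ≫ S.y j (q + 1) ≫ S.wd l _ r
    rw [← Category.assoc, ← Category.assoc, S.comm]
  | trans _ _ ih ih' => exact fun q r => (ih q r).trans (ih' q r)

theorem Sys.wd_append (S : Sys X σ) (i : σ) : ∀ (l : List σ) (q r : ℕ),
    S.wd l q r ≫ S.y i r = S.wd (l ++ [i]) q (r + 1)
  | [], q, r => by
    show (if h : q = r then eqToHom (congrArg S.N h) else 0) ≫ _ =
      S.y i q ≫ (if h : q + 1 = r + 1 then eqToHom (congrArg S.N h) else 0)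
    by_cases h : q = r
    · subst h; simp
    · rw [dif_neg h, dif_neg (by omega), zero_comp, comp_zero]
  | j :: l, q, r => by
    show (S.y j q ≫ S.wd l (q + 1) r) ≫ _ = S.y j q ≫ S.wd (l ++ [i]) (q + 1) (r + 1)
    rw [Category.assoc, S.wd_append i l]

/-- Iterated operators along a multiset. -/
def Sys.wm (S : Sys X σ) (m : Multiset σ) (q r : ℕ) : S.N q ⟶ S.N r :=
  Quotient.liftOn m (fun l => S.wd l q r) fun _ _ h => S.wd_perm h q r

theorem Sys.wm_cons (S : Sys X σ) (i : σ) (m : Multiset σ) (q r : ℕ) :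
    S.wm (i ::ₘ m) q (r + 1) = S.wm m q r ≫ S.y i r := by
  induction m using Quotient.inductionOn with
  | h l => exact (S.wd_perm (List.perm_append_singleton i l).symm q (r + 1)).trans (S.wd_append i l q r).symm

theorem Sys.wm_zero (S : Sys X σ) (q : ℕ) : S.wm 0 q q = 𝟙 _ := by
  show (if h : q = q then eqToHom (congrArg S.N h) else 0) = _
  rw [dif_pos rfl]; rfl

/-- Generators in prescribed degrees. -/
structure Gens (S : Sys X σ) where
  G : Type u
  fin : Fintype G
  deg : G → ℕ
  T : G → X.Modules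
  coh : ∀ a, Coh.IsCoh (T a)
  g : ∀ a, T a ⟶ S.N (deg a)

variable {S : Sys X σ} (g : Gens S)

/-- Monomial indices in degree `p`. -/
def Gens.J (p : ℕ) : Type u := Σ a : {a : g.G // g.deg a ≤ p}, Sym σ (p - g.deg a.1)

noncomputable instance [Fintype σ] (p : ℕ) : Fintype (g.J p) := by
  classical
  haveI := g.fin
  unfold Gens.J
  infer_instance

/-- Raising the degree of an index. -/
def Gens.succ (i : σ) {p : ℕ} (j : g.J p) : g.J (p + 1) :=
  ⟨⟨j.1.1, j.1.2.trans p.le_succ⟩,
    ⟨i ::ₘ j.2.1, (Multiset.card_cons _ _).trans (by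
      have h1 := j.1.2
      have h2 : Multiset.card j.2.1 = p - g.deg j.1.1 := j.2.2
      show Multiset.card j.2.1 + 1 = p + 1 - g.deg j.1.1
      omega)⟩⟩

theorem Gens.J_ext {p : ℕ} {j j' : g.J p} (h : j.1.1 = j'.1.1) (h' : j.2.1 = j'.2.1) : j = j' := by
  obtain ⟨⟨a, ha⟩, m, hm⟩ := j
  obtain ⟨⟨a', ha'⟩, m', hm'⟩ := j'
  simp only at h h'
  subst h h'
  rfl

variable [Fintype σ]

/-- The summands of the free cover in degree `p`. -/
abbrev Gens.summand (p : ℕ) : g.J p → X.Modules := fun j => g.T j.1.1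

/-- The free cover in degree `p`. -/
abbrev Gens.F (p : ℕ) : X.Modules := ⨁ g.summand p

/-- The free system. -/
def Gens.free : Sys X σ where
  N := g.F
  y i p := biproduct.desc fun j => biproduct.ι (g.summand (p + 1)) (g.succ i j)
  comm i j p := by
    classical
    refine biproduct.hom_ext' _ _ fun x => ?_
    rw [biproduct.ι_desc_assoc, biproduct.ι_desc_assoc]
    erw [biproduct.ι_desc, biproduct.ι_desc]
    have h : g.succ j (g.succ i x) = g.succ i (g.succ j x) := g.J_ext rfl (Multiset.cons_swap _ _ _)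
    have key : ∀ (a b : g.J (p + 1 + 1)) (hab : a = b) (e : g.T x.1.1 = g.summand (p + 1 + 1) a)
        (e' : g.T x.1.1 = g.summand (p + 1 + 1) b),
        eqToHom e ≫ biproduct.ι (g.summand (p + 1 + 1)) a = eqToHom e' ≫ biproduct.ι (g.summand (p + 1 + 1)) b := by
      rintro a b rfl e e'; rfl
    simpa using key _ _ h rfl rfl
  coh p := QCoh.isCoh_biproduct _ fun j => g.coh j.1.1

/-- The projection from the free cover. -/
def Gens.π (p : ℕ) : g.F p ⟶ S.N p :=
  biproduct.desc fun j : g.J p => g.g j.1.1 ≫ S.wm j.2.1 (g.deg j.1.1) p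

theorem Gens.π_comm (i : σ) (p : ℕ) : g.free.y i p ≫ g.π (p + 1) = g.π p ≫ S.y i p := by
  classical
  refine biproduct.hom_ext' _ _ fun x => ?_
  show biproduct.ι _ x ≫ (biproduct.desc _) ≫ _ = biproduct.ι _ x ≫ biproduct.desc _ ≫ _
  rw [biproduct.ι_desc_assoc, biproduct.ι_desc_assoc]
  erw [biproduct.ι_desc]
  show g.g x.1.1 ≫ S.wm (i ::ₘ x.2.1) _ _ = _
  rw [S.wm_cons, Category.assoc]

/-- The generators reach the sections over `U` up to degree `P0`. -/
def Gens.Onto (U : X.Opens) (P0 : ℕ) : Prop :=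
  ∀ p, p ≤ P0 → ∀ x : Γ(S.N p, U),
    x ∈ ⨆ a : {a : g.G // g.deg a = p}, AddMonoidHom.range ((g.g a.1 ≫ eqToHom (congrArg S.N a.2)).app U).hom

theorem Gens.π_surjective {U : X.Opens} {P0 : ℕ} (hS : S.GenOn U P0) (hg : g.Onto U P0) :
    ∀ (p : ℕ) (x : Γ(S.N p, U)), x ∈ AddMonoidHom.range ((g.π p).app U).hom := by
  classical
  intro p
  induction p using Nat.strong_induction_on with
  | _ p IH =>
    intro x
    by_cases hp : p ≤ P0
    · refine (iSup_le (a := AddMonoidHom.range ((g.π p).app U).hom) ?_) (hg p hp x)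
      rintro ⟨a, rfl⟩ _ ⟨z, rfl⟩
      let j : g.J (g.deg a) := ⟨⟨a, le_rfl⟩, ⟨0, by simp⟩⟩
      refine ⟨(biproduct.ι (g.summand (g.deg a)) j).app U z, ?_⟩
      have h : biproduct.ι (g.summand (g.deg a)) j ≫ g.π (g.deg a) = g.g a ≫ eqToHom rfl := by
        rw [Gens.π, biproduct.ι_desc, S.wm_zero]; rfl
      exact congr(($h).app U z)
    · obtain ⟨q, rfl⟩ : ∃ q, p = q + 1 := ⟨p - 1, by omega⟩
      refine (iSup_le (a := AddMonoidHom.range ((g.π (q + 1)).app U).hom) ?_) (hS q (by omega) x)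
      rintro i _ ⟨z, rfl⟩
      obtain ⟨w, hw⟩ := IH q (by omega) z
      refine ⟨(g.free.y i q).app U w, ?_⟩
      rw [← hw]
      exact congr(($(g.π_comm i q)).app U w)

theorem Gens.free_genOn {P0 : ℕ} (hdeg : ∀ a, g.deg a ≤ P0) (U : X.Opens) : g.free.GenOn U P0 := by
  classical
  intro p hp x
  rw [show x = _ from QCoh.biproduct_app_decomp (g.summand (p + 1)) U x]
  refine AddSubgroup.sum_mem _ fun j _ => ?_
  have ha : g.deg j.1.1 ≤ p := (hdeg _).trans hp
  obtain ⟨i, m, hm⟩ : ∃ i m, j.2.1 = i ::ₘ m := by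
    obtain ⟨i, hi⟩ := Multiset.card_pos_iff_exists_mem.1 (show 0 < Multiset.card j.2.1 by
      rw [j.2.2]; omega)
    exact ⟨i, _, (Multiset.cons_erase hi).symm⟩
  let j' : g.J p := ⟨⟨j.1.1, ha⟩, ⟨m, by
    have h1 : Multiset.card j.2.1 = p + 1 - g.deg j.1.1 := j.2.2
    rw [hm, Multiset.card_cons] at h1
    show Multiset.card m = p - g.deg j.1.1
    omega⟩⟩
  have hj : g.succ i j' = j := g.J_ext rfl hm.symm
  refine AddSubgroup.mem_iSup_of_mem i ?_
  generalize (biproduct.π (g.summand (p + 1)) j).app U x = z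
  revert z
  rw [← hj]
  intro z
  refine ⟨(biproduct.ι (g.summand p) j').app U z, ?_⟩
  have h : biproduct.ι (g.summand p) j' ≫ g.free.y i p = biproduct.ι (g.summand (p + 1)) (g.succ i j') :=
    biproduct.ι_desc _ _
  exact congr(($h).app U z)

/-- The kernel system. -/
def Gens.ker [IsLocallyNoetherian X] : Sys X σ where
  N p := kernel (g.π p)
  y i p := kernel.lift _ (kernel.ι (g.π p) ≫ g.free.y i p) (by
    rw [Category.assoc, g.π_comm, kernel.condition_assoc, zero_comp])
  comm i j p := by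
    refine (cancel_mono (kernel.ι (g.π (p + 1 + 1)))).1 ?_
    simp only [Category.assoc, kernel.lift_ι, kernel.lift_ι_assoc]
    rw [g.free.comm]
  coh p := QCoh.isCoh_kernel (g.free.coh p) (S.coh p) _

theorem Gens.ker_genOn [IsLocallyNoetherian X] {P0 : ℕ} (hdeg : ∀ a, g.deg a ≤ P0) {U : X.Opens}
    (hU : IsAffineOpen U) : ∃ P1, g.ker.GenOn U P1 :=
  genOn_sub g.ker g.free (fun p => kernel.ι (g.π p)) (fun i p => kernel.lift_ι _ _ _) hU
    (fun p => ZClosLib.app_injective_of_mono _ _) (g.free_genOn hdeg U)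

end Groth.Agent.Growth22.RegPow
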