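import Groth.Agent.Growth22.RegPow.Vanish
import Groth.Agent.OmegaLib.IdealMod
import Groth.Agent.H23.TensorDesc
import Groth.Agent.DRHyp.HypBasic
import Groth.Agent.H75.MulRestrict
import Groth.Agent.LS17.CurveH1
import Groth.Agent.SurfInt.Restrict

/-!
# The system of the powers of an ideal with a generated twist
-/

universe u

set_option backward.isDefEq.respectTransparency false
set_option backward.isDefEq.respectTransparency.types false
set_option linter.style.haveILetI false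
set_option maxHeartbeats 1000000

open CategoryTheory CategoryTheory.Limits AlgebraicGeometry TopologicalSpace Opposite
open Groth.Agent Groth.Agent.PnCoh Groth.Agent.PnCoh.Finite Groth.Agent.ProjRegular Groth.Agent.RegEpi

noncomputable section

namespace Groth.Agent.Growth22.RegPow

attribute [local instance] QCoh.hasFiniteBiproducts

variable {k : Type u} [Field k] {n : ℕ}

local notation "PP" => Proj (CohB1.polyGrading n k)
local notation "Ptw" => Twist.twist (CohB1.polyGrading n k)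

/-- The degree `p * d`. -/
def deg' (d : ℤ) : ℕ → ℤ
  | 0 => 0
  | p + 1 => deg' d p + d

theorem deg'_eq (d : ℤ) : ∀ p : ℕ, deg' d p = d * p
  | 0 => by simp [deg']
  | p + 1 => by rw [deg', deg'_eq d p]; push_cast; ring

/-- The frame of `O(a)` below a coordinate open. -/
def fr {j : ULift.{u} (Fin (n + 1))} {W : (Proj (CohB1.polyGrading n k)).Opens} (hW : W ≤ UU j) (a : ℤ) :
    Γ(Ptw a, W) :=
  twPow (coords_mem j) a (nonVan_of_le hW)

theorem isFrame_fr {j : ULift.{u} (Fin (n + 1))} {W : (Proj (CohB1.polyGrading n k)).Opens} (hW : W ≤ UU j) (a : ℤ) :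
    InvX.IsFrame (fr hW a) := fun _ hV =>
  trivMap_bijective (coords_mem j) a (nonVan_of_le (hV.trans hW))

/-- The base of small affine opens. -/
def Small (W : (Proj (CohB1.polyGrading n k)).Opens) : Prop := IsAffineOpen W ∧ ∃ j, W ≤ UU (k := k) j

theorem isBase_small : DRHyp.Hyp.IsBase (X := PP) (Small (k := k) (n := n)) := by
  intro U x hx
  obtain ⟨j, hj⟩ := Opens.mem_iSup.1 ((coords_cover (k := k) (n := n)).ge (trivial : x ∈ (⊤ : (Proj (CohB1.polyGrading n k)).Opens)))
  obtain ⟨W, hW, hxW, hWU⟩ := exists_isAffineOpen_mem_and_subset (show x ∈ U ⊓ UU j from ⟨hx, hj⟩)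
  exact ⟨W, ⟨hW, j, fun y hy => (hWU hy).2⟩, fun y hy => (hWU hy).1, hxW⟩

/-- Multiplication `J ⊗ O(a) → O(a)`. -/
def mulBil (J : (Proj (CohB1.polyGrading n k)).IdealSheafData) (a : ℤ) :
    H23.TensorDesc.Bilin (ClSub.idealMod J) (Ptw a) (Ptw a) where
  b U x e := OmegaSh.idealSect J U x • e
  add_left U x x' e := by rw [map_add, add_smul]
  smul_left U r x e := by rw [OmegaLib.idealSect_smul, mul_smul]
  add_right U x e e' := smul_add _ _ _
  smul_right U r x e := smul_comm _ _ _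
  res {U V} h x e := by rw [Scheme.Modules.map_smul, OmegaLib.idealSect_map]

/-- The inclusion of `J(a)` into `O(a)`. -/
def incl (J : (Proj (CohB1.polyGrading n k)).IdealSheafData) (a : ℤ) :
    CohB1.tensorMod (ClSub.idealMod J) (Ptw a) ⟶ Ptw a :=
  H23.TensorDesc.desc (mulBil J a)

theorem incl_tmul (J : (Proj (CohB1.polyGrading n k)).IdealSheafData) (a : ℤ) (U : (Proj (CohB1.polyGrading n k)).Opens)
    (x : Γ(ClSub.idealMod J, U)) (e : Γ(Ptw a, U)) :
    (incl J a).app U (InvX.tmul x e) = OmegaSh.idealSect J U x • e :=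
  H23.TensorDesc.desc_tmul (mulBil J a) U x e

theorem isQCoh_idealMod (J : (Proj (CohB1.polyGrading n k)).IdealSheafData) :
    Coh.IsCoh (ClSub.idealMod J) := by
  haveI hP : IsNoetherian (Proj (CohB1.polyGrading n k)) := Proj16.isNoetherian_proj _
  exact SurfInt.isCoh_idealMod J

theorem isCoh_twist' (a : ℤ) : Coh.IsCoh (Ptw a : (Proj (CohB1.polyGrading n k)).Modules) := by
  haveI hP : IsNoetherian (Proj (CohB1.polyGrading n k)) := Proj16.isNoetherian_proj _
  exact CurveDeg.isCoh_of_isInvertible (isInvertible_twist (coords k n) coords_mem coords_cover a)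

/-- Elements of `J(a)` over small opens. -/
theorem exists_incl_eq (J : (Proj (CohB1.polyGrading n k)).IdealSheafData) (a : ℤ) {j : ULift.{u} (Fin (n + 1))}
    {W : (Proj (CohB1.polyGrading n k)).Opens} (hW : W ≤ UU j) (hA : IsAffineOpen W) (c : Γ(PP, W)) (hc : c ∈ J.ideal ⟨W, hA⟩) :
    ∃ z, (incl J a).app W z = c • fr hW a := by
  rw [← J.ker_subschemeι_app ⟨W, hA⟩, RingHom.mem_ker] at hc
  obtain ⟨x, hx⟩ := OmegaLib.exists_idealSect_eq J W c hc
  exact ⟨InvX.tmul x (fr hW a), by rw [incl_tmul, hx]⟩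

theorem exists_coeff (J : (Proj (CohB1.polyGrading n k)).IdealSheafData) (a : ℤ) {j : ULift.{u} (Fin (n + 1))}
    {W : (Proj (CohB1.polyGrading n k)).Opens} (hW : W ≤ UU j) (hA : IsAffineOpen W) (z : Γ(CohB1.tensorMod (ClSub.idealMod J) (Ptw a), W)) :
    ∃ c ∈ J.ideal ⟨W, hA⟩, (incl J a).app W z = c • fr hW a := by
  obtain ⟨x, rfl⟩ := (H75.MulR.bijective_tmul_frame (isQCoh_idealMod J).1 (isCoh_twist' a).1 (isFrame_fr hW a)).2 z
  exact ⟨_, OmegaLib.idealSect_mem J ⟨W, hA⟩ x, incl_tmul J a W x _⟩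

theorem incl_injective (J : (Proj (CohB1.polyGrading n k)).IdealSheafData) (a : ℤ) (W : (Proj (CohB1.polyGrading n k)).Opens) (h : Small W) :
    Function.Injective ((incl J a).app W) := by
  obtain ⟨-, j, hW⟩ := h
  intro z z' hz
  have hb := H75.MulR.bijective_tmul_frame (M := ClSub.idealMod J) (isQCoh_idealMod J).1 (isCoh_twist' a).1
    (isFrame_fr hW a)
  obtain ⟨x, rfl⟩ := hb.2 z
  obtain ⟨x', rfl⟩ := hb.2 z'
  simp only [incl_tmul] at hz
  have hx : OmegaSh.idealSect J W x = OmegaSh.idealSect J W x' :=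
    (isFrame_fr hW a).coord_unique le_rfl (by simpa only [AModX.res_self] using hz)
  rw [OmegaLib.idealSect_injective J W hx]

theorem mono_incl (J : (Proj (CohB1.polyGrading n k)).IdealSheafData) (a : ℤ) : Mono (incl J a) :=
  DRHyp.Hyp.mono_of_base isBase_small _ (incl_injective J a)

/-- Multiplication by a global section of `O(d)`. -/
def mulBy {d : ℤ} (s : Γ(Ptw d, (⊤ : (Proj (CohB1.polyGrading n k)).Opens))) (a : ℤ) :
    (Twist.twist (CohB1.polyGrading n k) a) ⟶ Ptw (a + d) where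
  val := PresheafOfModules.homMk
    { app := fun V => AddCommGrpCat.ofHom (AddMonoidHom.mk'
        (fun t => PnCoh.Finite.mulSect (U := V) a d t
          (AModX.res (Ptw d) (le_top : V.unop ≤ ⊤) s))
        fun t t' => Subtype.ext (funext fun x => Subtype.ext (add_mul _ _ _)))
      naturality := fun V V' i => rfl }
    fun V r t => PnCoh.Finite.mulSect_smul_left a d r t _

theorem mulBy_app {d : ℤ} (s : Γ(Ptw d, (⊤ : (Proj (CohB1.polyGrading n k)).Opens))) (a : ℤ) (W : (Proj (CohB1.polyGrading n k)).Opens) (t : Γ(Ptw a, W)) :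
    (mulBy s a).app W t = (PnCoh.Finite.mulSect (U := op W) a d t (AModX.res (Ptw d) (le_top : W ≤ ⊤) s) :) := rfl

theorem mulBy_comm {d : ℤ} (s s' : Γ(Ptw d, (⊤ : (Proj (CohB1.polyGrading n k)).Opens))) (a : ℤ) :
    mulBy s a ≫ mulBy s' (a + d) = mulBy s' a ≫ mulBy s (a + d) := by
  refine Scheme.Modules.hom_ext _ _ fun U => ?_
  ext t
  exact Subtype.ext (funext fun x => Subtype.ext (mul_right_comm _ _ _))

theorem mulBy_frame {d : ℤ} (s : Γ(Ptw d, (⊤ : (Proj (CohB1.polyGrading n k)).Opens))) (a : ℤ) {j : ULift.{u} (Fin (n + 1))}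
    {W : (Proj (CohB1.polyGrading n k)).Opens} (hW : W ≤ UU j) (c h : Γ(PP, W))
    (hs : AModX.res (Ptw d) (le_top : W ≤ ⊤) s = h • fr hW d) :
    (mulBy s a).app W (c • fr hW a) = (c * h) • fr hW (a + d) := by
  rw [Scheme.Modules.Hom.app_smul, mul_smul]
  congr 1
  rw [mulBy_app, hs]
  refine (PnCoh.Finite.mulSect_smul_right (U := op W) a d h _ _).trans ?_
  erw [twPow_mul (coords_mem j) a d (nonVan_of_le hW)]
  rfl

/-- Sections generating `I(d)`, on small opens. -/
theorem exists_sections (I : (Proj (CohB1.polyGrading n k)).IdealSheafData) (d : ℤ)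
    (hd : Curv2.IsGloballyGenerated (CohB1.tensorMod (ClSub.idealMod I) (Ptw d))) :
    ∃ (b : ℕ) (s : ULift.{u} (Fin b) → Γ(Ptw d, (⊤ : (Proj (CohB1.polyGrading n k)).Opens))),
      ∀ (j : ULift.{u} (Fin (n + 1))) (W : (Proj (CohB1.polyGrading n k)).Opens) (hW : W ≤ UU j) (hA : IsAffineOpen W),
        ∃ h : ULift.{u} (Fin b) → Γ(PP, W),
          (∀ i, AModX.res (Ptw d) (le_top : W ≤ ⊤) (s i) = h i • fr hW d) ∧
          I.ideal ⟨W, hA⟩ = Ideal.span (Set.range h) := by
  letI : (Proj (CohB1.polyGrading n k)).Over (Spec (CommRingCat.of k)) :=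
    inferInstanceAs ((CohB1.ProjSpace n k).Over (Spec (CommRingCat.of k)))
  haveI : IsProper ((Proj (CohB1.polyGrading n k)) ↘ Spec (CommRingCat.of k)) :=
    PnCoh.Chow.isProper_toSpec n k
  haveI hP : IsNoetherian (Proj (CohB1.polyGrading n k)) := Proj16.isNoetherian_proj _
  have hM : Coh.IsCoh (CohB1.tensorMod (ClSub.idealMod I) (Ptw d)) :=
    ProjRegular.isCoh_twistBy (isQCoh_idealMod I) d
  obtain ⟨b, ψ, hψ⟩ := LS17.CurveH1.exists_epi_sigma k hM hd
  let f : ULift.{u} (Fin b) → (Coh.structureModule PP ⟶ CohB1.tensorMod (ClSub.idealMod I) (Ptw d)) :=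
    fun i => Sigma.ι (fun _ : Fin b => Coh.structureModule PP) i.down ≫ ψ
  haveI : Epi (biproduct.desc f) := by
    have : biproduct.desc f = ((biproduct.isoCoproduct _).hom ≫
        (Sigma.whiskerEquiv (f := fun _ : ULift.{u} (Fin b) => Coh.structureModule PP)
          (g := fun _ : Fin b => Coh.structureModule PP) Equiv.ulift fun _ => Iso.refl _).hom) ≫ ψ := by
      refine biproduct.hom_ext' _ _ fun i => ?_
      simp [f]
    rw [this]
    exact epi_comp _ _
  refine ⟨b, fun i => (incl I d).app ⊤ (InvX.one (f i)), fun j W hW hA => ?_⟩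
  choose h hhI hh using fun i => exists_coeff I d hW hA (AModX.res _ (le_top : W ≤ ⊤) (InvX.one (f i)))
  refine ⟨h, fun i => by rw [← hh i, AModX.app_res], le_antisymm (fun c hc => ?_) ?_⟩
  · obtain ⟨z, hz⟩ := exists_incl_eq I d hW hA c hc
    have hstr : Coh.IsCoh (Coh.structureModule PP) := AmpleVan.isCoh_invertible InvX.isInvertible_structureModule
    obtain ⟨w, rfl⟩ := QCoh.app_surjective_of_epi (QCoh.isCoh_biproduct _ fun _ => hstr).1 hM.1
      (biproduct.desc f) hA z
    rw [QCoh.biproduct_desc_app, map_sum] at hz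
    let r : ULift.{u} (Fin b) → Γ(PP, W) := fun i =>
      (biproduct.π (fun _ : ULift.{u} (Fin b) => Coh.structureModule PP) i).app W w
    have hterm : ∀ i, (incl I d).app W ((f i).app W (r i)) = (r i * h i) • fr hW d := fun i => by
      rw [InvX.app_eq_smul (f i) (r i), Scheme.Modules.Hom.app_smul, hh, mul_smul]
    rw [Finset.sum_congr rfl fun i _ => hterm i, ← Finset.sum_smul] at hz
    have hcc : ∑ i, r i * h i = c :=
      (isFrame_fr hW d).coord_unique le_rfl (by simpa only [AModX.res_self] using hz)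
    rw [← hcc]
    exact Ideal.sum_mem _ fun i _ => Ideal.mul_mem_left _ _ (Ideal.subset_span ⟨i, rfl⟩)
  · rw [Ideal.span_le]
    rintro _ ⟨i, rfl⟩
    exact hhI i

variable (I : (Proj (CohB1.polyGrading n k)).IdealSheafData) (d : ℤ)

/-- The module `I^p(dp)`. -/
abbrev powTw (p : ℕ) : (Proj (CohB1.polyGrading n k)).Modules :=
  CohB1.tensorMod (ClSub.idealMod (I ^ p)) (Ptw (deg' d p))

/-- The system of powers exists and is generated. -/
theorem exists_powSys (hd : Curv2.IsGloballyGenerated (CohB1.tensorMod (ClSub.idealMod I) (Ptw d))) :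
    ∃ (σ : Type u) (_ : Fintype σ) (S : Sys PP σ), (∀ p, Nonempty (S.N p ≅ powTw I d p)) ∧ IsGen S := by
  classical
  obtain ⟨b, s, hs⟩ := exists_sections I d hd
  let ι := fun p => incl (I ^ p) (deg' d p)
  haveI : ∀ p, Mono (ι p) := fun p => mono_incl _ _
  have hfac : ∀ i p, (ι p ≫ mulBy (s i) (deg' d p)) ≫ cokernel.π (ι (p + 1)) = 0 := fun i p => by
    refine DRHyp.Hyp.hom_ext_of_base isBase_small fun W hW z => ?_
    obtain ⟨hA, j, hWj⟩ := hW
    obtain ⟨c, hc, hz⟩ := exists_coeff (I ^ p) (deg' d p) hWj hA z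
    obtain ⟨h, hh, hI⟩ := hs j W hWj hA
    obtain ⟨z', hz'⟩ := exists_incl_eq (I ^ (p + 1)) (deg' d p + d) hWj hA (c * h i) (by
      simp only [Scheme.IdealSheafData.ideal_pow, Pi.pow_apply] at hc ⊢
      rw [pow_succ]
      exact Ideal.mul_mem_mul hc (hI ▸ Ideal.subset_span ⟨i, rfl⟩))
    show (cokernel.π (ι (p + 1))).app W ((mulBy (s i) (deg' d p)).app W ((incl _ _).app W z)) = 0
    rw [hz, mulBy_frame _ _ hWj c (h i) (hh i), ← hz']
    exact congr(($(cokernel.condition (ι (p + 1)))).app W z')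
  let y := fun i p => Abelian.monoLift (ι (p + 1)) (ι p ≫ mulBy (s i) (deg' d p)) (hfac i p)
  have hy : ∀ i p, y i p ≫ ι (p + 1) = ι p ≫ mulBy (s i) (deg' d p) := fun i p => Abelian.monoLift_comp _ _ _
  let S : Sys PP (ULift.{u} (Fin b)) :=
    { N := powTw I d
      y := y
      comm := fun i i' p => by
        refine (cancel_mono (ι (p + 1 + 1))).1 ?_
        rw [Category.assoc, Category.assoc, hy, hy, reassoc_of% (hy i p), reassoc_of% (hy i' p)]
        exact congrArg (ι p ≫ ·) (mulBy_comm (s i) (s i') (deg' d p))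
      coh := fun p => ProjRegular.isCoh_twistBy (isQCoh_idealMod (I ^ p)) _ }
  refine ⟨_, inferInstance, S, fun p => ⟨Iso.refl _⟩, fun j => ⟨0, fun p _ x => ?_⟩⟩
  have hA : IsAffineOpen (UU (k := k) j) := isAffineOpen_D coords_mem j
  obtain ⟨c, hc, hx⟩ := exists_coeff (I ^ (p + 1)) (deg' d (p + 1)) le_rfl hA x
  obtain ⟨h, hh, hI⟩ := hs j _ le_rfl hA
  rw [Scheme.IdealSheafData.ideal_pow, Pi.pow_apply, pow_succ] at hc
  have hgoal : ∃ w ∈ ⨆ i, AddMonoidHom.range ((S.y i p).app (UU j)).hom,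
      (ι (p + 1)).app (UU j) w = c • fr (le_refl (UU j)) (deg' d (p + 1)) := by
    refine Submodule.mul_induction_on hc (fun a ha t ht => ?_) ?_
    · have ha' : a ∈ (I ^ p).ideal ⟨UU j, hA⟩ := by
        simpa only [Scheme.IdealSheafData.ideal_pow, Pi.pow_apply] using ha
      clear ha
      rw [hI] at ht
      induction ht using Submodule.span_induction generalizing a with
      | mem t ht =>
        obtain ⟨i, rfl⟩ := ht
        obtain ⟨z, hz⟩ := exists_incl_eq (I ^ p) (deg' d p) le_rfl hA a ha'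
        refine ⟨_, AddSubgroup.mem_iSup_of_mem i ⟨z, rfl⟩, ?_⟩
        refine (congr(($(hy i p)).app (UU j) z)).trans ?_
        show (mulBy (s i) (deg' d p)).app _ ((incl _ _).app _ z) = _
        rw [hz]
        exact mulBy_frame _ _ le_rfl a (h i) (hh i)
      | zero => exact ⟨0, zero_mem _, by rw [map_zero, mul_zero, zero_smul]⟩
      | add t t' _ _ ih ih' =>
        obtain ⟨w, hw, hw'⟩ := ih a ha'
        obtain ⟨v, hv, hv'⟩ := ih' a ha'
        exact ⟨w + v, add_mem hw hv, by rw [map_add, hw', hv', mul_add, add_smul]⟩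
      | smul r t _ ih =>
        obtain ⟨w, hw, hw'⟩ := ih (a * r) (Ideal.mul_mem_right _ _ ha')
        exact ⟨w, hw, hw'.trans (by rw [smul_eq_mul, mul_assoc])⟩
    · rintro a a' ⟨w, hw, hw'⟩ ⟨v, hv, hv'⟩
      exact ⟨w + v, add_mem hw hv, by rw [map_add, hw', hv', add_smul]⟩
  obtain ⟨w, hw, hw'⟩ := hgoal
  rwa [incl_injective _ _ (UU j) ⟨hA, j, le_rfl⟩ (hx.trans hw'.symm)]

/-- Linear vanishing for powers. -/
theorem exists_vanishing_pow (hd : Curv2.IsGloballyGenerated (CohB1.tensorMod (ClSub.idealMod I) (Ptw d))) :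
    ∃ e : ℤ, ∀ p : ℕ, ∀ j : ℕ, 1 ≤ j → ∀ t : ℤ, d * p + e ≤ t →
      Subsingleton (Coh.HH (Proj (CohB1.polyGrading n k))
        ((twF t).obj (ClSub.idealMod (I ^ p))) j) := by
  obtain ⟨σ, hσ, S, hN, hgen⟩ := exists_powSys I d hd
  obtain ⟨e, he⟩ := exists_vanishing S hgen
  refine ⟨e, fun p j hj t ht => ?_⟩
  obtain ⟨φ⟩ := hN p
  obtain ⟨ψ⟩ := twF_twF_iso (ClSub.idealMod (I ^ p)) (deg' d p) (t - deg' d p) t (by ring)
  exact QCoh.subsingleton_HH_of_iso ((twF (t - deg' d p)).mapIso φ ≪≫ ψ) j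
    (he j hj p (t - deg' d p) (by rw [deg'_eq]; linarith))

end Groth.Agent.Growth22.RegPow
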