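import Groth.Agent.QCoh.DevissageIdeal
import Groth.Agent.ZClosLib.Basic

/-!
# Finitely generated systems of coherent modules over a polynomial ring
-/

universe u

set_option backward.isDefEq.respectTransparency false
set_option backward.isDefEq.respectTransparency.types false
set_option linter.style.haveILetI false

open CategoryTheory CategoryTheory.Limits AlgebraicGeometry TopologicalSpace Opposite
open Groth.Agent

namespace Groth.Agent.Growth22.RegPow

variable {X : Scheme.{u}} {σ : Type u}

/-- A sequence of modules with commuting operators of degree one. -/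
structure Sys (X : Scheme.{u}) (σ : Type u) where
  N : ℕ → X.Modules
  y : σ → ∀ p, N p ⟶ N (p + 1)
  comm : ∀ i j p, y i p ≫ y j (p + 1) = y j p ≫ y i (p + 1)
  coh : ∀ p, Coh.IsCoh (N p)

/-- Generation over an open beyond a degree. -/
def Sys.GenOn (S : Sys X σ) (U : X.Opens) (P0 : ℕ) : Prop :=
  ∀ p, P0 ≤ p → ∀ x : Γ(S.N (p + 1), U), x ∈ ⨆ i, AddMonoidHom.range ((S.y i p).app U).hom

theorem Sys.GenOn.mono {S : Sys X σ} {U : X.Opens} {P P' : ℕ} (h : S.GenOn U P) (hP : P ≤ P') :
    S.GenOn U P' := fun p hp => h p (hP.trans hp)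

/-- A morphism of modules as a linear map on sections. -/
noncomputable def appLin {M N : X.Modules} (φ : M ⟶ N) (U : X.Opens) : Γ(M, U) →ₗ[Γ(X, U)] Γ(N, U) where
  toFun := φ.app U
  map_add' := map_add _
  map_smul' r x := φ.app_smul r x

/-- A subsystem of a generated system is generated. -/
theorem genOn_sub [IsLocallyNoetherian X] [Finite σ] (T S : Sys X σ) (ι : ∀ p, T.N p ⟶ S.N p)
    (hcomm : ∀ i p, T.y i p ≫ ι (p + 1) = ι p ≫ S.y i p) {U : X.Opens} (hU : IsAffineOpen U)
    (hι : ∀ p, Function.Injective ((ι p).app U)) {P0 : ℕ} (hS : S.GenOn U P0) :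
    ∃ P1, T.GenOn U P1 := by
  classical
  let A := Γ(X, U)
  haveI : IsNoetherianRing A := QCoh.noetherian_sections ⟨U, hU⟩
  let M := DirectSum ℕ fun p => Γ(S.N p, U)
  let Y : σ → Module.End A M := fun i =>
    DirectSum.toModule A ℕ M fun p => (DirectSum.lof A ℕ (fun p => Γ(S.N p, U)) (p + 1)).comp (appLin (S.y i p) U)
  have hY : ∀ i p (x : Γ(S.N p, U)), Y i (DirectSum.lof A ℕ (fun p => Γ(S.N p, U)) p x) =
      DirectSum.lof A ℕ (fun p => Γ(S.N p, U)) (p + 1) ((S.y i p).app U x) := fun i p x => by
    exact (DirectSum.toModule_lof (R := A) (M := fun p => Γ(S.N p, U))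
      (φ := fun p => (DirectSum.lof A ℕ (fun p => Γ(S.N p, U)) (p + 1)).comp (appLin (S.y i p) U)) p x)
  have hYc : ∀ a ∈ Set.range Y, ∀ b ∈ Set.range Y, a * b = b * a := by
    rintro _ ⟨i, rfl⟩ _ ⟨j, rfl⟩
    refine DirectSum.linearMap_ext (R := A) fun p => LinearMap.ext fun x => ?_
    simp only [LinearMap.comp_apply]
    erw [Module.End.mul_apply, Module.End.mul_apply, hY, hY, hY, hY]
    exact congrArg _ (congr(($(S.comm j i p)).app U x))
  let Rng := Algebra.adjoin A (Set.range Y)
  letI : CommRing Rng := Algebra.adjoinCommRingOfComm A hYc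
  haveI : Algebra.FiniteType A Rng :=
    (Subalgebra.fg_iff_finiteType _).1 (Subalgebra.fg_def.2 ⟨_, Set.finite_range Y, rfl⟩)
  haveI : IsNoetherianRing Rng := Algebra.FiniteType.isNoetherianRing A Rng
  let Yr : σ → Rng := fun i => ⟨Y i, Algebra.subset_adjoin ⟨i, rfl⟩⟩
  let of := fun p (x : Γ(S.N p, U)) => (DirectSum.lof A ℕ (fun p => Γ(S.N p, U)) p x : M)
  -- finite generation
  haveI := fun p => QCoh.finite_sections (S.coh p) hU
  choose g hg using fun p => (Module.Finite.fg_top : (⊤ : Submodule A Γ(S.N p, U)).FG)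
  let gens : Finset M := (Finset.range (P0 + 1)).biUnion fun p => (g p).image (of p)
  have hgen : ∀ p (x : Γ(S.N p, U)), of p x ∈ Submodule.span Rng (gens : Set M) := by
    intro p
    induction p using Nat.strong_induction_on with
    | _ p IH =>
      intro x
      by_cases hp : p ≤ P0
      · have hx : x ∈ Submodule.span A (g p : Set Γ(S.N p, U)) := hg p ▸ Submodule.mem_top
        have hx' := Submodule.mem_map_of_mem (f := DirectSum.lof A ℕ (fun p => Γ(S.N p, U)) p) hx
        rw [Submodule.map_span] at hx'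
        refine Submodule.span_le_restrictScalars A Rng _ (Submodule.span_mono ?_ hx')
        rintro _ ⟨z, hz, rfl⟩
        simp only [gens, Finset.coe_biUnion, Set.mem_iUnion, Finset.coe_image]
        exact ⟨p, Finset.mem_range.2 (Nat.lt_succ_of_le hp), z, hz, rfl⟩
      · obtain ⟨p, rfl⟩ : ∃ q, p = q + 1 := ⟨p - 1, by omega⟩
        refine AddSubgroup.iSup_induction _ (C := fun z => of (p + 1) z ∈ Submodule.span Rng (gens : Set M))
          (hS p (by omega) x) ?_ ?_ ?_
        · rintro i _ ⟨z, rfl⟩
          have h1 := Submodule.smul_mem _ (Yr i) (IH p (by omega) z)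
          have h2 : Yr i • of p z = of (p + 1) ((S.y i p).app U z) := hY i p z
          rw [h2] at h1
          exact h1
        · simp only [of, map_zero]; exact zero_mem _
        · intro a b ha hb
          simp only [of, map_add] at ha hb ⊢
          exact add_mem ha hb
  haveI : Module.Finite Rng M := ⟨⟨gens, Submodule.eq_top_iff'.2 fun z => by
    induction z using DirectSum.induction_on with
    | zero => exact zero_mem _
    | of p x => exact hgen p x
    | add a b ha hb => exact add_mem ha hb⟩⟩
  haveI : IsNoetherian Rng M := isNoetherian_of_isNoetherianRing_of_finite Rng M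
  -- the submodules generated in bounded degrees
  let K : ℕ → Submodule Rng M := fun P =>
    Submodule.span Rng {z | ∃ p, p ≤ P ∧ ∃ x, z = of p ((ι p).app U x)}
  have hKmono : Monotone K := fun P P' hP => Submodule.span_mono fun z ⟨p, hp, hz⟩ => ⟨p, hp.trans hP, hz⟩
  obtain ⟨P, hP⟩ := monotone_stabilizes_iff_noetherian.2 ‹IsNoetherian Rng M› ⟨K, hKmono⟩
  refine ⟨P, fun p hp x => ?_⟩
  -- a predicate closed under the operators
  let G : Submodule A M :=
    { carrier := {z | (∀ q, ∃ w, (ι q).app U w = z q) ∧ ∀ q, P ≤ q →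
        ∃ w ∈ ⨆ i, AddMonoidHom.range ((T.y i q).app U).hom, (ι (q + 1)).app U w = z (q + 1)}
      zero_mem' := ⟨fun q => ⟨0, map_zero _⟩, fun q _ => ⟨0, zero_mem _, map_zero _⟩⟩
      add_mem' := fun {a b} ha hb => ⟨fun q => by
          obtain ⟨v, hv⟩ := ha.1 q; obtain ⟨w, hw⟩ := hb.1 q
          exact ⟨v + w, by rw [map_add, hv, hw]; rfl⟩,
        fun q hq => by
          obtain ⟨v, hv, hv'⟩ := ha.2 q hq; obtain ⟨w, hw, hw'⟩ := hb.2 q hq
          exact ⟨v + w, add_mem hv hw, by rw [map_add, hv', hw']; rfl⟩⟩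
      smul_mem' := fun c a ha => ⟨fun q => by
          obtain ⟨v, hv⟩ := ha.1 q
          exact ⟨c • v, ((ι q).app_smul c v).trans (by rw [hv]; rfl)⟩,
        fun q hq => by
          obtain ⟨v, hv, hv'⟩ := ha.2 q hq
          refine ⟨c • v, ?_, ((ι (q + 1)).app_smul c v).trans (by rw [hv']; rfl)⟩
          refine AddSubgroup.iSup_induction _
            (C := fun z => c • z ∈ ⨆ i, AddMonoidHom.range ((T.y i q).app U).hom) hv ?_ ?_ ?_
          · rintro i _ ⟨z, rfl⟩
            exact AddSubgroup.mem_iSup_of_mem i ⟨c • z, (T.y i q).app_smul c z⟩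
          · rw [smul_zero]; exact zero_mem _
          · intro a b ha hb; rw [smul_add]; exact add_mem ha hb⟩ }
  have hof : ∀ q (v : Γ(T.N q, U)) (w : Γ(T.N (q+1), U)) (i : σ), (T.y i q).app U v = w →
      (ι (q + 1)).app U w = (S.y i q).app U ((ι q).app U v) := fun q v w i h => by
    rw [← h]
    exact congr(($(hcomm i q)).app U v)
  have hYsucc : ∀ i (z : M) q, (Y i z) (q + 1) = (S.y i q).app U (z q) := by
    intro i z q
    induction z using DirectSum.induction_on with
    | zero => simp
    | of p v =>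
      rw [← DirectSum.lof_eq_of A, hY]
      by_cases hpq : p = q
      · subst hpq; rw [DirectSum.lof_apply, DirectSum.lof_apply]
      · rw [DirectSum.lof_eq_of, DirectSum.lof_eq_of, DirectSum.of_eq_of_ne _ _ _ (by omega),
          DirectSum.of_eq_of_ne _ _ _ (Ne.symm hpq), map_zero]
    | add a b ha hb =>
      rw [map_add]
      show (Y i a) _ + (Y i b) _ = _
      rw [ha, hb]
      first
        | exact (map_add _ _ _).symm
        | exact add_zero _
  have hYzero : ∀ i (z : M), (Y i z) 0 = 0 := by
    intro i z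
    induction z using DirectSum.induction_on with
    | zero => simp
    | of p v =>
      rw [← DirectSum.lof_eq_of A, hY, DirectSum.lof_eq_of, DirectSum.of_eq_of_ne _ _ _ (by omega)]
    | add a b ha hb =>
      rw [map_add]
      show (Y i a) _ + (Y i b) _ = _
      rw [ha, hb]
      first
        | exact (map_add _ _ _).symm
        | exact add_zero _
  have hGY : ∀ i, ∀ z ∈ G, Y i z ∈ G := by
    refine fun i z hz => ⟨fun q => ?_, fun q hq => ?_⟩
    · rcases q with _ | q
      · exact ⟨0, by rw [map_zero, hYzero]⟩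
      · obtain ⟨v, hv⟩ := hz.1 q
        exact ⟨_, (hof q v _ i rfl).trans (by rw [hv, hYsucc])⟩
    · obtain ⟨v, hv⟩ := hz.1 q
      exact ⟨_, AddSubgroup.mem_iSup_of_mem i ⟨v, rfl⟩, (hof q v _ i rfl).trans (by rw [hv, hYsucc])⟩
  have hGR : ∀ r ∈ Algebra.adjoin A (Set.range Y), ∀ z ∈ G, r z ∈ G := by
    intro r hr
    induction hr using Algebra.adjoin_induction with
    | mem r hr => obtain ⟨i, rfl⟩ := hr; exact hGY i
    | algebraMap c => exact fun z hz => G.smul_mem c hz
    | add a b _ _ ha hb => exact fun z hz => G.add_mem (ha z hz) (hb z hz)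
    | mul a b _ _ ha hb => exact fun z hz => ha _ (hb z hz)
  have hKG : ∀ z ∈ K P, z ∈ G := by
    intro z hz
    induction hz using Submodule.span_induction with
    | mem z hz =>
      obtain ⟨q, hq, v, rfl⟩ := hz
      refine ⟨fun r => ?_, fun r hr => ⟨0, zero_mem _, ?_⟩⟩
      · by_cases hqr : q = r
        · subst hqr; exact ⟨v, by simp only [of, DirectSum.lof_apply]⟩
        · exact ⟨0, (map_zero _).trans (by
            simp only [of, DirectSum.lof_eq_of]
            rw [DirectSum.of_eq_of_ne _ _ _ (Ne.symm hqr)])⟩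
      · simp only [of, DirectSum.lof_eq_of]
        rw [map_zero, DirectSum.of_eq_of_ne _ _ _ (by omega)]
    | zero => exact G.zero_mem
    | add a b _ _ ha hb => exact G.add_mem ha hb
    | smul c a _ ha => exact hGR c.1 c.2 a ha
  have hx : of (p + 1) ((ι (p + 1)).app U x) ∈ K P := by
    rw [show K P = K (max P (p + 1)) from hP _ (le_max_left _ _)]
    exact Submodule.subset_span ⟨p + 1, le_max_right _ _, x, rfl⟩
  obtain ⟨w, hw, hw'⟩ := (hKG _ hx).2 p hp
  simp only [of, DirectSum.lof_apply] at hw'
  rwa [← hι _ hw']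

end Groth.Agent.Growth22.RegPow
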