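import Groth.Agent.Growth22.RegPow.Free
import Groth.Agent.Lib.RegDescent
import Groth.Agent.Lib.SyzygyPn

/-!
# Uniform vanishing for generated systems on projective space
-/

universe u

set_option backward.isDefEq.respectTransparency false
set_option backward.isDefEq.respectTransparency.types false
set_option linter.style.haveILetI false
set_option maxHeartbeats 1000000

open CategoryTheory CategoryTheory.Limits AlgebraicGeometry TopologicalSpace Opposite
open Groth.Agent Groth.Agent.PnCoh.Finite Groth.Agent.ProjRegular Groth.Agent.RegEpi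

noncomputable section

namespace Groth.Agent.Growth22.RegPow

attribute [local instance] QCoh.hasFiniteBiproducts

variable {k : Type u} [Field k] {n : ℕ}

local notation "PP" => Proj (CohB1.polyGrading n k)
local notation "Ptw" => Twist.twist (CohB1.polyGrading n k)

theorem subsingleton_H_X₃ {Y : TopCat.{u}} {T : ShortComplex (CohTop.Ab Y)} (hT : T.ShortExact)
    (q : ℕ) (h₂ : Subsingleton (CohTop.H T.X₂ q)) (h₁ : Subsingleton (CohTop.H T.X₁ (q + 1))) :
    Subsingleton (CohTop.H T.X₃ q) := by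
  refine subsingleton_of_forall_eq 0 fun x => ?_
  obtain ⟨y, rfl⟩ := CategoryTheory.Abelian.Ext.covariant_sequence_exact₃ _ hT x rfl (h₁.elim _ _)
  rw [h₂.elim y 0]
  exact CategoryTheory.Abelian.Ext.zero_comp _ _ _ _ _

theorem subsingleton_HH_X₃ {X : Scheme.{u}} {T : ShortComplex X.Modules} (hT : T.ShortExact) (q : ℕ)
    (h₂ : Subsingleton (Coh.HH X T.X₂ q)) (h₁ : Subsingleton (Coh.HH X T.X₁ (q + 1))) :
    Subsingleton (Coh.HH X T.X₃ q) :=
  subsingleton_H_X₃ (Y := X.toPresheafedSpace.carrier) (T := T.map (QCoh.toAbFunctor X))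
    (QCoh.toAb_shortExact hT) q h₂ h₁

/-- The coordinate opens. -/
abbrev UU (j : ULift.{u} (Fin (n + 1))) : (Proj (CohB1.polyGrading n k)).Opens :=
  D (CohB1.polyGrading n k) (coords k n j)

/-- Generated on every coordinate open. -/
def IsGen {σ : Type u} (S : Sys (Proj (CohB1.polyGrading n k)) σ) : Prop :=
  ∀ j, ∃ P0, S.GenOn (UU j) P0

theorem exists_bound {σ : Type u} {S : Sys PP σ} (hS : IsGen S) : ∃ P0, ∀ j, S.GenOn (UU j) P0 := by
  choose P hP using hS
  exact ⟨Finset.univ.sup P, fun j => (hP j).mono (Finset.le_sup (Finset.mem_univ j))⟩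

/-- Generators by twists in bounded degrees. -/
theorem exists_gens {σ : Type u} (S : Sys PP σ) (P0 : ℕ) :
    ∃ (g : Gens S) (c : g.G → ℤ), (∀ a, g.deg a ≤ P0) ∧ (∀ a, g.T a = Ptw (c a)) ∧ ∀ j, g.Onto (UU j) P0 := by
  classical
  haveI hP : IsNoetherian (Proj (CohB1.polyGrading n k)) := Proj16.isNoetherian_proj _
  choose ι hfin d T p q hT hT3 hT1 hT2 hpq using fun m : Fin (P0 + 1) =>
    exists_presentation (f := coords k n) coords_mem coords_cover coords_noetherian
      (good_of_isCoh coords_mem (S.coh m.1))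
  let g : Gens S :=
    { G := Σ m : Fin (P0 + 1), ι m
      fin := inferInstance
      deg := fun a => a.1.1
      T := fun a => Ptw (d a.1 a.2)
      coh := fun a => CurveDeg.isCoh_of_isInvertible (isInvertible_twist (coords k n) coords_mem coords_cover _)
      g := fun a => q a.1 a.2 ≫ (T a.1).g ≫ eqToHom (hT3 a.1) }
  refine ⟨g, fun a => d a.1 a.2, fun a => Nat.le_of_lt_succ a.1.2, fun a => rfl, fun j m hm x => ?_⟩
  let m' : Fin (P0 + 1) := ⟨m, Nat.lt_succ_of_le hm⟩
  haveI : Epi (T m').g := (hT m').epi_g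
  have hq : Coh.IsQCoh (T m').X₃ := by rw [hT3 m']; exact (S.coh m).1
  obtain ⟨z, hz⟩ := QCoh.app_surjective_of_epi (hT2 m') hq (T m').g (isAffineOpen_D coords_mem j)
    ((eqToHom (hT3 m').symm).app (UU j) x)
  have hzsum : z = ∑ a, (q m' a).app (UU j) ((p m' a).app (UU j) z) := by
    refine Eq.trans ?_ (QCoh.app_sum Finset.univ (fun a => p m' a ≫ q m' a) (UU j) z)
    rw [hpq m']; rfl
  have hx : x = (eqToHom (hT3 m')).app (UU j) ((T m').g.app (UU j) z) := by
    rw [hz]
    have h : eqToHom (hT3 m').symm ≫ eqToHom (hT3 m') = 𝟙 _ := by simp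
    exact (congr(($h).app (UU j) x)).symm
  rw [hx, hzsum, map_sum, map_sum]
  refine AddSubgroup.sum_mem _ fun a _ => ?_
  refine AddSubgroup.mem_iSup_of_mem ⟨⟨m', a⟩, rfl⟩ ⟨(p m' a).app (UU j) z, ?_⟩
  show ((q m' a ≫ (T m').g ≫ eqToHom (hT3 m')) ≫ eqToHom rfl).app (UU j) ((p m' a).app (UU j) z) = _
  rw [eqToHom_refl, Category.comp_id]
  rfl

/-- The projection from the free cover is an epimorphism. -/
theorem epi_π {σ : Type u} [Fintype σ] {S : Sys PP σ} {P0 : ℕ} (hS : ∀ j, S.GenOn (UU j) P0) (g : Gens S)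
    (hg : ∀ j, g.Onto (UU j) P0) (p : ℕ) : Epi (g.π p) := by
  haveI hP : IsNoetherian (Proj (CohB1.polyGrading n k)) := Proj16.isNoetherian_proj _
  have hA : Coh.IsCoh (g.F p) := g.free.coh p
  have hB : Coh.IsCoh (S.N p) := S.coh p
  refine Preadditive.epi_of_isZero_cokernel _ (QCoh.isZero_of_cover (QCoh.isCoh_cokernel hA.1 hB (g.π p)).1
    (fun j => UU (k := k) (n := n) j) (fun j => isAffineOpen_D coords_mem j)
    (fun x => Opens.mem_iSup.1 (coords_cover.ge (trivial : x ∈ (⊤ : (Proj (CohB1.polyGrading n k)).Opens))))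
    fun j => ?_)
  have hsurj := QCoh.app_surjective_of_epi hB.1 (QCoh.isCoh_cokernel hA.1 hB (g.π p)).1
    (cokernel.π (g.π p)) (isAffineOpen_D coords_mem j)
  refine subsingleton_of_forall_eq 0 fun t => ?_
  obtain ⟨x, rfl⟩ := hsurj t
  obtain ⟨w, rfl⟩ := g.π_surjective (hS j) (hg j) p x
  exact congr(($(cokernel.condition (g.π p))).app _ w)

/-- Uniform vanishing in degrees at least `n + 1 - d`. -/
theorem exists_vanishing_aux (d : ℕ) : ∀ {σ : Type u} [Fintype σ] (S : Sys PP σ), IsGen S →
    ∀ j : ℕ, 1 ≤ j → n + 1 ≤ j + d → ∃ e : ℤ, ∀ p : ℕ, ∀ t : ℤ, e ≤ t →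
      Subsingleton (Coh.HH (Proj (CohB1.polyGrading n k)) ((twF t).obj (S.N p)) j) := by
  letI : (Proj (CohB1.polyGrading n k)).Over (Spec (CommRingCat.of k)) :=
    inferInstanceAs ((CohB1.ProjSpace n k).Over (Spec (CommRingCat.of k)))
  haveI hP : IsNoetherian (Proj (CohB1.polyGrading n k)) := Proj16.isNoetherian_proj _
  induction d with
  | zero =>
    intro σ _ S _ j _ hj
    exact ⟨0, fun p t _ => ProjRegular.subsingleton_HH_high (k := k) (n := n) (S.coh p) t j (by omega)⟩
  | succ d IH =>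
    intro σ _ S hS j hj1 hj
    classical
    obtain ⟨P0, hP0⟩ := exists_bound hS
    obtain ⟨g, c, hdeg, hc, hg⟩ := exists_gens S P0
    haveI := g.fin
    have hK : IsGen g.ker := fun i => g.ker_genOn hdeg (isAffineOpen_D coords_mem i)
    obtain ⟨e₁, he₁⟩ := IH g.ker hK (j + 1) (by omega) (by omega)
    let e₂ : ℤ := Finset.univ.sup' ⟨none, Finset.mem_univ none⟩
      (fun a : Option g.G => a.elim e₁ fun a => -(n : ℤ) - c a)
    refine ⟨e₂, fun p t ht => ?_⟩
    have he : e₁ ≤ t := le_trans (Finset.le_sup' (fun a : Option g.G => a.elim e₁ fun a => -(n : ℤ) - c a)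
      (Finset.mem_univ (none : Option g.G))) ht
    have hca : ∀ a, -(n : ℤ) - c a ≤ t := fun a =>
      le_trans (Finset.le_sup' (fun a : Option g.G => a.elim e₁ fun a => -(n : ℤ) - c a)
        (Finset.mem_univ (some a))) ht
    haveI := epi_π hP0 g hg p
    let T : ShortComplex (Proj (CohB1.polyGrading n k)).Modules :=
      ShortComplex.mk (kernel.ι (g.π p)) (g.π p) (kernel.condition _)
    have hT : T.ShortExact := { exact := ShortComplex.exact_of_f_is_kernel _ (kernelIsKernel (g.π p)) }
    have hTt := shortExact_twistBy (coords k n) coords_mem coords_cover t hT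
    have hF : Subsingleton (Coh.HH (Proj (CohB1.polyGrading n k)) ((twF t).obj (g.F p)) j) := by
      refine subsingleton_HH_of_decomposition (fun a : g.J p => (twF t).obj (g.summand p a))
        (fun a => (twF t).map (biproduct.π (g.summand p) a)) (fun a => (twF t).map (biproduct.ι (g.summand p) a))
        ?_ j fun a => ?_
      · rw [← (twF (k := k) (n := n) t).map_id, ← QCoh.biproduct_total' (g.summand p), Functor.map_sum]
        exact Finset.sum_congr rfl fun a _ => (Functor.map_comp _ _ _).symm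
      · obtain ⟨φ⟩ := twistBy_twist_iso (coords k n) coords_mem coords_cover (c a.1.1) t
        have h := hca a.1.1
        have h0 : Subsingleton (Coh.HH (Proj (CohB1.polyGrading n k)) (Ptw (c a.1.1 + t)) j) :=
          S0844.result k n _ j (fun h' => by omega) (fun h' => by omega)
        show Subsingleton (Coh.HH (Proj (CohB1.polyGrading n k)) ((twF t).obj (g.T a.1.1)) j)
        rw [hc]
        exact QCoh.subsingleton_HH_of_iso φ.symm j h0
    exact subsingleton_HH_X₃ hTt j hF (he₁ p t he)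

/-- Uniform vanishing of higher cohomology of all twists. -/
theorem exists_vanishing {σ : Type u} [Fintype σ] (S : Sys PP σ) (hS : IsGen S) :
    ∃ e : ℤ, ∀ j : ℕ, 1 ≤ j → ∀ p : ℕ, ∀ t : ℤ, e ≤ t →
      Subsingleton (Coh.HH (Proj (CohB1.polyGrading n k)) ((twF t).obj (S.N p)) j) := by
  classical
  haveI hP : IsNoetherian (Proj (CohB1.polyGrading n k)) := Proj16.isNoetherian_proj _
  choose e he using fun j : Fin n => exists_vanishing_aux n S hS (j.1 + 1) (by omega) (by omega)
  refine ⟨Finset.univ.sup' ⟨none, Finset.mem_univ none⟩ (fun a : Option (Fin n) => a.elim (0 : ℤ) e),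
    fun j hj p t ht => ?_⟩
  rcases le_or_gt j n with h | h
  · obtain ⟨j, rfl⟩ : ∃ i, j = i + 1 := ⟨j - 1, by omega⟩
    exact he ⟨j, by omega⟩ p t (le_trans (Finset.le_sup' (fun a : Option (Fin n) => a.elim (0 : ℤ) e)
      (Finset.mem_univ (some (⟨j, by omega⟩ : Fin n)))) ht)
  · exact ProjRegular.subsingleton_HH_high (k := k) (n := n) (S.coh p) t j h

end Groth.Agent.Growth22.RegPow
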